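import Mathlib
import Cfsg.Agent.InvChar.UniqueInvolution
import Cfsg.Agent.Kazarin.Main

/-!
"Abelian subgroups of equal order are conjugate" passes to quotients by normal subgroups of odd
order: a minimal supplement in the preimage of an abelian subgroup is abelian of determined order.
-/

set_option autoImplicit false
set_option linter.style.haveILetI false

namespace CfsgLib.AbelConj

open Subgroup

variable {G : Type*} [Group G] [Finite G]

theorem le_of_card_dvd {C : Type*} [Group C] [Finite C] [IsCyclic C] {X Y : Subgroup C}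
    (h : Nat.card X ∣ Nat.card Y) : X ≤ Y := by
  classical
  haveI : Fintype C := Fintype.ofFinite C
  intro x hx
  have hx' : x ^ Nat.card Y = 1 := by
    obtain ⟨k, hk⟩ := h
    have h1 : x ^ Nat.card X = 1 := congrArg Subtype.val (pow_card_eq_one' (G := X) (x := ⟨x, hx⟩))
    rw [hk, pow_mul, h1, one_pow]
  have hsub : (Y : Set C).toFinset ⊆ Finset.univ.filter (fun c : C => c ^ Nat.card Y = 1) := by
    intro c hc
    rw [Set.mem_toFinset] at hc
    exact Finset.mem_filter.2 ⟨Finset.mem_univ _,
      congrArg Subtype.val (pow_card_eq_one' (G := Y) (x := ⟨c, hc⟩))⟩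
  have hle := IsCyclic.card_pow_eq_one_le (α := C) (n := Nat.card Y) Nat.card_pos
  have heq := Finset.eq_of_subset_of_card_le hsub (hle.trans (le_of_eq (by
    rw [Set.toFinset_card, ← Nat.card_eq_fintype_card]; rfl)))
  exact Set.mem_toFinset.1 (heq.symm ▸ Finset.mem_filter.2 ⟨Finset.mem_univ _, hx'⟩)

variable (M : Subgroup G) [M.Normal]

theorem isCyclic_sylow
    (hB : ∀ A B : Subgroup G, IsMulCommutative A → IsMulCommutative B → Nat.card A = Nat.card B →
      ∃ g : G, B = A.map (MulAut.conj g).toMonoidHom)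
    {r : ℕ} [hr : Fact r.Prime] (hrM : r ∣ Nat.card M) (R : Sylow r G)
    (huniq : (∀ a b : R, orderOf a = r → orderOf b = r → b ∈ zpowers a) → IsCyclic R)
    {x : G} (hx : x ∈ (R : Subgroup G)) (hxM : x ∉ M) : IsCyclic R := by
  classical
  by_contra hnc
  -- elements of order `r` lie in `M`
  obtain ⟨y, hy⟩ := exists_prime_orderOf_dvd_card' (G := M) r hrM
  have hr1 : ∀ z : G, orderOf z = r → z ∈ M := by
    intro z hz
    obtain ⟨g, hg⟩ := hB (zpowers (y : G)) (zpowers z) inferInstance inferInstance (by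
      rw [Nat.card_zpowers, Nat.card_zpowers, Subgroup.orderOf_coe, hy, hz])
    have h1 : z ∈ (zpowers (y : G)).map (MulAut.conj g).toMonoidHom := hg ▸ mem_zpowers z
    obtain ⟨w, hw, rfl⟩ := h1
    exact ‹M.Normal›.conj_mem w (zpowers_le.2 y.2 hw) g
  -- an elementary subgroup of order `r ^ 2`
  have hnu : ¬ ∀ a b : R, orderOf a = r → orderOf b = r → b ∈ zpowers a := fun hu => hnc (huniq hu)
  push Not at hnu
  obtain ⟨a, b, ha, hb, hab⟩ := hnu
  haveI : Nontrivial R := ⟨a, 1, fun e => by rw [e, orderOf_one] at ha; exact hr.out.one_lt.ne ha⟩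
  haveI := R.2.center_nontrivial
  obtain ⟨c, hc⟩ := exists_prime_orderOf_dvd_card' (G := center R) r
    (((R.2.to_subgroup _).card_eq_or_dvd).resolve_left Finite.one_lt_card.ne')
  have hc' : orderOf (c : R) = r := by rw [Subgroup.orderOf_coe, hc]
  obtain ⟨d, hd, hdc⟩ : ∃ d : R, orderOf d = r ∧ d ∉ zpowers (c : R) := by
    by_contra hno
    push Not at hno
    have h1 := hno a ha
    have h2 := hno b hb
    haveI : Finite (zpowers (c : R)) := inferInstance
    have h3 : zpowers a = zpowers (c : R) := eq_of_le_of_card_ge (zpowers_le.2 h1) (by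
      rw [Nat.card_zpowers, Nat.card_zpowers, hc', ha])
    exact hab (h3 ▸ h2)
  set E : Subgroup R := zpowers (c : R) ⊔ zpowers d
  haveI hEc : IsMulCommutative E := by
    rw [show E = closure {(c : R), d} by
      rw [show ({(c : R), d} : Set R) = {(c : R)} ∪ {d} from rfl, Subgroup.closure_union, ← zpowers_eq_closure,
        ← zpowers_eq_closure]]
    exact Subgroup.isMulCommutative_closure (by
      rintro u (rfl | rfl) v (rfl | rfl) <;>
        first | rfl | exact (mem_center_iff.1 c.2 _).symm | exact mem_center_iff.1 c.2 _)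
  have hEexp : ∀ e ∈ E, e ^ r = 1 := by
    intro e he
    obtain ⟨u, hu, v, hv, rfl⟩ : ∃ u ∈ zpowers (c : R), ∃ v ∈ zpowers d, u * v = e := by
      haveI : (zpowers (c : R)).Normal := ⟨fun w hw g => by
        rw [mem_center_iff.1 (zpowers_le.2 c.2 hw) g, mul_inv_cancel_right]; exact hw⟩
      have h : e ∈ ((zpowers (c : R) ⊔ zpowers d : Subgroup R) : Set R) := he
      rw [Subgroup.normal_mul] at h
      exact h
    have huv : Commute u v := congrArg Subtype.val
      (mul_comm' (⟨u, mem_sup_left hu⟩ : E) ⟨v, mem_sup_right hv⟩)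
    obtain ⟨i, rfl⟩ := hu
    obtain ⟨j, rfl⟩ := hv
    rw [huv.mul_pow, ← zpow_natCast ((c : R) ^ i), ← zpow_mul, mul_comm i, zpow_mul, zpow_natCast,
      ← zpow_natCast (d ^ j), ← zpow_mul, mul_comm j, zpow_mul, zpow_natCast,
      orderOf_dvd_iff_pow_eq_one.1 hc'.dvd, orderOf_dvd_iff_pow_eq_one.1 hd.dvd,
      one_zpow, one_zpow, one_mul]
  obtain ⟨k, hk⟩ := IsPGroup.iff_card.1 (R.2.to_subgroup E)
  have hk2 : 2 ≤ k := by
    by_contra hk1
    have hle : Nat.card E ≤ r := by
      rw [hk]
      exact (Nat.pow_le_pow_right hr.out.pos (show k ≤ 1 by omega)).trans (le_of_eq (pow_one r))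
    have h4 : zpowers (c : R) = E := eq_of_le_of_card_ge le_sup_left (by rw [Nat.card_zpowers, hc']; exact hle)
    exact hdc (h4.symm ▸ mem_sup_right (mem_zpowers d))
  obtain ⟨E2, hE2⟩ := Sylow.exists_subgroup_card_pow_prime r (G := E) (n := 2) (by
    rw [hk]; exact pow_dvd_pow r hk2)
  set F : Subgroup G := (E2.map E.subtype).map (R : Subgroup G).subtype
  have hFc : Nat.card F = r ^ 2 := by
    rw [card_map_of_injective (R : Subgroup G).subtype_injective, card_map_of_injective E.subtype_injective, hE2]
  have hFexp : ∀ f ∈ F, f ^ r = 1 := by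
    rintro _ ⟨_, ⟨e, -, rfl⟩, rfl⟩
    rw [← map_pow]
    exact (congrArg (R : Subgroup G).subtype (show (E.subtype e) ^ r = 1 from hEexp e e.2)).trans (map_one _)
  haveI : IsMulCommutative F := by
    refine ⟨⟨?_⟩⟩
    rintro ⟨_, ⟨_, ⟨u, -, rfl⟩, rfl⟩⟩ ⟨_, ⟨_, ⟨v, -, rfl⟩, rfl⟩⟩
    exact Subtype.ext (congrArg (fun w : E => ((w : R) : G)) (mul_comm' u v))
  -- so the exponent of `R` is `r`
  refine hxM (hr1 x ?_)
  obtain ⟨j, hj⟩ := R.2 ⟨x, hx⟩
  have hxo : orderOf x ∣ r ^ j := orderOf_dvd_of_pow_eq_one (by simpa using congrArg Subtype.val hj)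
  obtain ⟨m, -, hm⟩ := (Nat.dvd_prime_pow hr.out).1 hxo
  rcases m with _ | _ | m
  · rw [pow_zero, orderOf_eq_one_iff] at hm
    exact absurd (hm ▸ M.one_mem) hxM
  · rw [hm, pow_one]
  · exfalso
    have hx2 : orderOf (x ^ r ^ m) = r ^ 2 := by
      rw [orderOf_pow' _ (pow_ne_zero _ hr.out.ne_zero), hm,
        Nat.gcd_eq_right (pow_dvd_pow r (by omega)), Nat.pow_div (by omega) hr.out.pos]
      congr 1
      omega
    obtain ⟨g, hg⟩ := hB F (zpowers (x ^ r ^ m)) inferInstance inferInstance (by
      rw [hFc, Nat.card_zpowers, hx2])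
    have h1 : x ^ r ^ m ∈ F.map (MulAut.conj g).toMonoidHom := hg ▸ mem_zpowers _
    obtain ⟨f, hf, hfe⟩ := h1
    have h2 : (x ^ r ^ m) ^ r = 1 := by rw [← hfe, ← map_pow, hFexp f hf, map_one]
    have h3 := orderOf_dvd_of_pow_eq_one h2
    rw [hx2] at h3
    have := Nat.le_of_dvd hr.out.pos h3
    have := hr.out.two_le
    nlinarith

theorem exists_lift
    (hcyc : ∀ (r : ℕ) [Fact r.Prime], r ∣ Nat.card M → ∀ (R : Sylow r G), ∀ x ∈ (R : Subgroup G),
      x ∉ M → IsCyclic R)
    (A : Subgroup (G ⧸ M)) (hA : IsMulCommutative A) :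
    ∃ D : Subgroup G, IsMulCommutative D ∧ D.map (QuotientGroup.mk' M) = A ∧
      ∀ r : ℕ, r.Prime → (Nat.card D).factorization r = (Nat.card A).factorization r +
        if r ∣ Nat.card A then (Nat.card M).factorization r else 0 := by
  classical
  set π := QuotientGroup.mk' M
  haveI : Finite (Subgroup G) :=
    Finite.of_injective (fun K : Subgroup G => (K : Set G)) SetLike.coe_injective
  obtain ⟨D, hD⟩ := Set.Finite.exists_minimal (Set.toFinite {D : Subgroup G | D.map π = A})
    ⟨A.comap π, map_comap_eq_self_of_surjective (QuotientGroup.mk'_surjective M) A⟩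
  have hDmap : D.map π = A := hD.1
  have hmin : ∀ D' : Subgroup G, D' ≤ D → D'.map π = A → D' = D := fun D' h1 h2 =>
    le_antisymm h1 (hD.2 h2 h1)
  set K : Subgroup D := M.subgroupOf D
  have hcomm : ∀ u v : D, u * v * u⁻¹ * v⁻¹ ∈ K := by
    intro u v
    rw [mem_subgroupOf, ← QuotientGroup.ker_mk' M, MonoidHom.mem_ker]
    have hu : π u ∈ A := hDmap ▸ mem_map_of_mem π u.2
    have hv : π v ∈ A := hDmap ▸ mem_map_of_mem π v.2
    have h := congrArg Subtype.val (mul_comm' (⟨_, hu⟩ : A) ⟨_, hv⟩)
    change π u * π v = π v * π u at h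
    simp only [coe_mul, coe_inv, map_mul, map_inv]
    change π u * π v * (π u)⁻¹ * (π v)⁻¹ = 1
    rw [h]; group
  -- a subgroup covering `D` modulo `K` is everything
  have hcover : ∀ T : Subgroup D, T ⊔ K = ⊤ → T = ⊤ := by
    intro T hT
    have h1 : (T.map D.subtype).map π = A := by
      refine le_antisymm ((map_mono (map_subtype_le T)).trans hDmap.le) ?_
      rw [← hDmap]
      rintro _ ⟨d, hd, rfl⟩
      have hd' : (⟨d, hd⟩ : D) ∈ ((T ⊔ K : Subgroup D) : Set D) := by rw [hT]; trivial
      rw [Subgroup.mul_normal] at hd'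
      obtain ⟨t, ht, k, hk, e⟩ := hd'
      refine ⟨t, ⟨t, ht, rfl⟩, ?_⟩
      have e' : d = (t : G) * (k : G) := (congrArg Subtype.val e).symm
      rw [e', map_mul, show π (k : G) = 1 from (QuotientGroup.eq_one_iff _).2 hk, mul_one]
    have h2 := hmin _ (map_subtype_le T) h1
    exact map_injective D.subtype_injective (h2.trans (by rw [← MonoidHom.range_eq_map, range_subtype]))
  have hnormal : ∀ (q : ℕ) [Fact q.Prime] (P : Sylow q D), (P : Subgroup D).Normal := by
    intro q _ P
    set T : Subgroup D := (P : Subgroup D) ⊔ K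
    haveI : T.Normal := ⟨fun t ht d => by
      have h : d * t * d⁻¹ = (d * t * d⁻¹ * t⁻¹) * t := by group
      rw [h]
      exact mul_mem (mem_sup_right (hcomm d t)) ht⟩
    have h1 := Sylow.normalizer_sup_eq_top (P.subtype (le_sup_left : (P : Subgroup D) ≤ T))
    rw [Sylow.coe_subtype, subgroupOf_map_subtype, inf_eq_left.2 le_sup_left] at h1
    refine normalizer_eq_top_iff.1 (hcover _ ?_)
    rw [← top_le_iff, ← h1]
    exact sup_le le_sup_left (sup_le (le_normalizer.trans le_sup_left) le_sup_right)
  -- the Sylow subgroups of `D`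
  have hsyl : ∀ (q : ℕ) [Fact q.Prime] (P : Sylow q D), IsMulCommutative P ∧
      (Nat.card D).factorization q = (Nat.card A).factorization q +
        if q ∣ Nat.card A then (Nat.card M).factorization q else 0 := by
    intro q hq P
    haveI := hnormal q P
    have hcardD : Nat.card D = Nat.card K * Nat.card A := by
      have h1 := K.card_mul_index
      have h2 : K.index = Nat.card A := by
        rw [← hDmap, ← show (π.domRestrict D).ker = K by
            rw [MonoidHom.ker_domRestrict, QuotientGroup.ker_mk'],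
          index_ker, MonoidHom.domRestrict_range]
      rw [← h1, h2]
    have hfac : (Nat.card D).factorization q = (Nat.card K).factorization q + (Nat.card A).factorization q := by
      rw [hcardD, Nat.factorization_mul Nat.card_pos.ne' Nat.card_pos.ne', Finsupp.add_apply]
    have hKM : Nat.card K ∣ Nat.card M := by
      rw [← card_map_of_injective D.subtype_injective, subgroupOf_map_subtype]
      exact card_dvd_of_le inf_le_left
    by_cases hPM : (P : Subgroup D) ≤ K
    · -- then `P` is trivial
      have hP1 : (P : Subgroup D) = ⊥ := by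
        obtain ⟨T, hT⟩ := exists_right_complement'_of_coprime (N := (P : Subgroup D)) P.card_coprime_index
        have h1 : T ⊔ K = ⊤ := top_unique (hT.sup_eq_top.symm.le.trans
          (sup_le (hPM.trans le_sup_right) le_sup_left))
        have h2 := hT.disjoint
        rw [hcover T h1, disjoint_top] at h2
        exact h2
      have hDq : (Nat.card D).factorization q = 0 := by
        have h1 := P.card_eq_multiplicity
        rw [hP1, card_bot] at h1
        rcases pow_eq_one_iff (M := ℕ) |>.1 h1.symm with h | h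
        · exact absurd h hq.out.ne_one
        · exact h
      refine ⟨by rw [hP1]; infer_instance, ?_⟩
      have hqA : ¬ q ∣ Nat.card A := fun h => by
        have := hq.out.factorization_pos_of_dvd Nat.card_pos.ne' h
        omega
      rw [if_neg hqA]
      omega
    · obtain ⟨d, hdP, hdK⟩ := SetLike.not_le_iff_exists.1 hPM
      have hdM : (d : G) ∉ M := hdK
      set P' : Subgroup G := (P : Subgroup D).map D.subtype
      obtain ⟨R, hR⟩ := (P.2.map D.subtype).exists_le_sylow
      have hqA : q ∣ Nat.card A := by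
        obtain ⟨j, hj⟩ := P.2 ⟨d, hdP⟩
        have hj' : (d : G) ^ q ^ j = 1 := by
          have := congrArg (fun w : P => ((w : D) : G)) hj
          simpa using this
        have h1 : π d ∈ A := hDmap ▸ mem_map_of_mem π d.2
        have h2 : orderOf (π d) ∣ q ^ j := orderOf_dvd_of_pow_eq_one (by rw [← map_pow, hj', map_one])
        obtain ⟨i, -, hi⟩ := (Nat.dvd_prime_pow hq.out).1 h2
        have hi0 : i ≠ 0 := fun h => hdM ((QuotientGroup.eq_one_iff _).1 ((orderOf_eq_one_iff.1 (by rw [hi, h, pow_zero] : orderOf (π d) = 1))))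
        have h3 : orderOf (π d) ∣ Nat.card A := by
          rw [← orderOf_mk _ h1]; exact orderOf_dvd_natCard _
        exact ((dvd_pow_self q hi0).trans (dvd_of_eq hi.symm)).trans h3
      rw [if_pos hqA, hfac]
      by_cases hqM : q ∣ Nat.card M
      · have hRc : IsCyclic R := hcyc q hqM R d (hR ⟨d, hdP, rfl⟩) hdM
        haveI := hRc
        have hPc : IsMulCommutative P := by
          haveI : IsCyclic P' := isCyclic_of_injective (inclusion hR) (inclusion_injective hR)
          haveI : IsCyclic P := isCyclic_of_injective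
            ((P : Subgroup D).equivMapOfInjective _ D.subtype_injective).toMonoidHom (MulEquiv.injective _)
          infer_instance
        refine ⟨hPc, ?_⟩
        -- the `q`-part of `M` lies in `D`
        set X : Subgroup G := (R : Subgroup G) ⊓ M
        have hXcard : (Nat.card X).factorization q = (Nat.card M).factorization q := by
          have h1 : (R : Subgroup G).relIndex M ∣ (R : Subgroup G).index :=
            CfsgLib.Kazarin.relIndex_dvd (R : Subgroup G) M
          have h2 := ((R : Subgroup G).subgroupOf M).card_mul_index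
          change Nat.card ((R : Subgroup G).subgroupOf M) * (R : Subgroup G).relIndex M = Nat.card M at h2
          have h3 : ¬ q ∣ (R : Subgroup G).relIndex M := fun h => R.not_dvd_index (h.trans h1)
          rw [← h2, Nat.factorization_mul Nat.card_pos.ne' (fun h => h3 (by rw [h]; exact dvd_zero q)),
            Finsupp.add_apply, Nat.factorization_eq_zero_of_not_dvd h3, add_zero,
            ← card_map_of_injective M.subtype_injective (K := (R : Subgroup G).subgroupOf M),
            subgroupOf_map_subtype]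
        have hXP : X ≤ P' := by
          have hXR : X ≤ (R : Subgroup G) := inf_le_left
          obtain ⟨a, ha⟩ := IsPGroup.iff_card.1 (R.2.to_le hXR)
          obtain ⟨b, hb⟩ := IsPGroup.iff_card.1 (P.2.map D.subtype)
          have hdiv : ∀ {X Y : Subgroup G}, X ≤ (R : Subgroup G) → Y ≤ (R : Subgroup G) →
              Nat.card X ∣ Nat.card Y → X ≤ Y := by
            intro X Y hX hY h x hx
            have h' : Nat.card (X.subgroupOf R) ∣ Nat.card (Y.subgroupOf R) := by
              rwa [Nat.card_congr (subgroupOfEquivOfLe hX).toEquiv, Nat.card_congr (subgroupOfEquivOfLe hY).toEquiv]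
            exact le_of_card_dvd (C := R) h' (show (⟨x, hX hx⟩ : R) ∈ X.subgroupOf R from hx)
          rcases le_total a b with h | h
          · exact hdiv hXR hR (by rw [ha, hb]; exact pow_dvd_pow q h)
          · exact absurd (hdiv hR hXR (by rw [ha, hb]; exact pow_dvd_pow q h) ⟨d, hdP, rfl⟩).2 hdM
        have hXK : Nat.card X ∣ Nat.card K := by
          rw [← card_map_of_injective D.subtype_injective (K := K), subgroupOf_map_subtype]
          exact card_dvd_of_le (le_inf inf_le_right (hXP.trans (map_subtype_le _)))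
        have h4 := (Nat.factorization_le_iff_dvd Nat.card_pos.ne' Nat.card_pos.ne').2 hXK q
        have h5 := (Nat.factorization_le_iff_dvd Nat.card_pos.ne' Nat.card_pos.ne').2 hKM q
        omega
      · have hK0 : (Nat.card K).factorization q = 0 :=
          Nat.factorization_eq_zero_of_not_dvd fun h => hqM (h.trans hKM)
        refine ⟨⟨⟨fun u v => ?_⟩⟩, by rw [hK0, Nat.factorization_eq_zero_of_not_dvd hqM]; ring⟩
        have h1 : (u : D) * v * (u : D)⁻¹ * (v : D)⁻¹ ∈ K := hcomm u v
        have h2 : (u : D) * v * (u : D)⁻¹ * (v : D)⁻¹ ∈ (P : Subgroup D) :=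
          mul_mem (mul_mem (mul_mem u.2 v.2) (inv_mem u.2)) (inv_mem v.2)
        obtain ⟨j, hj⟩ := P.2 ⟨_, h2⟩
        set w := (u : D) * v * (u : D)⁻¹ * (v : D)⁻¹ with hw
        have hj' : w ^ q ^ j = 1 := by simpa using congrArg Subtype.val hj
        have h3 : orderOf w ∣ Nat.card K := by rw [← orderOf_mk w h1]; exact orderOf_dvd_natCard _
        have h4 : w = 1 := orderOf_eq_one_iff.1 (Nat.eq_one_of_dvd_coprimes
          ((hq.out.coprime_iff_not_dvd.2 fun h => hqM (h.trans hKM)).pow_left j)
          (orderOf_dvd_of_pow_eq_one hj') h3)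
        refine Subtype.ext ?_
        rw [hw, mul_inv_eq_one, mul_inv_eq_iff_eq_mul] at h4
        exact h4
  refine ⟨D, ?_, hDmap, fun r hr => ?_⟩
  · let e := Sylow.directProductOfNormal (G := D) fun {q} _ P => hnormal q P
    refine ⟨⟨fun u v => e.symm.injective ?_⟩⟩
    rw [map_mul, map_mul]
    funext q P
    haveI : Fact (q : ℕ).Prime := ⟨Nat.prime_of_mem_primeFactors q.2⟩
    haveI := (hsyl q P).1
    exact mul_comm' (e.symm u q P) (e.symm v q P)
  · haveI := Fact.mk hr
    obtain ⟨P⟩ : Nonempty (Sylow r D) := inferInstance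
    exact (hsyl r P).2

theorem quotient_conj_of_cyclic
    (hB : ∀ A B : Subgroup G, IsMulCommutative A → IsMulCommutative B → Nat.card A = Nat.card B →
      ∃ g : G, B = A.map (MulAut.conj g).toMonoidHom)
    (hcyc : ∀ (r : ℕ) [Fact r.Prime], r ∣ Nat.card M → ∀ (R : Sylow r G), ∀ x ∈ (R : Subgroup G),
      x ∉ M → IsCyclic R)
    (A B : Subgroup (G ⧸ M)) (hA : IsMulCommutative A) (hB' : IsMulCommutative B)
    (h : Nat.card A = Nat.card B) : ∃ g : G ⧸ M, B = A.map (MulAut.conj g).toMonoidHom := by
  obtain ⟨D, hDc, hDA, hDf⟩ := exists_lift M hcyc A hA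
  obtain ⟨E, hEc, hEB, hEf⟩ := exists_lift M hcyc B hB'
  obtain ⟨g, hg⟩ := hB D E hDc hEc (Nat.eq_of_factorization_eq Nat.card_pos.ne' Nat.card_pos.ne' fun r => by
    by_cases hr : r.Prime
    · rw [hDf r hr, hEf r hr, h]
    · rw [Nat.factorization_eq_zero_of_not_prime _ hr, Nat.factorization_eq_zero_of_not_prime _ hr])
  refine ⟨QuotientGroup.mk' M g, ?_⟩
  rw [← hEB, ← hDA, hg, map_map, map_map]
  congr 1

/-- Odd order normal subgroups. -/
theorem quotient_conj
    (hB : ∀ A B : Subgroup G, IsMulCommutative A → IsMulCommutative B → Nat.card A = Nat.card B →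
      ∃ g : G, B = A.map (MulAut.conj g).toMonoidHom)
    (hM : Odd (Nat.card M)) (A B : Subgroup (G ⧸ M)) (hA : IsMulCommutative A) (hB' : IsMulCommutative B)
    (h : Nat.card A = Nat.card B) : ∃ g : G ⧸ M, B = A.map (MulAut.conj g).toMonoidHom :=
  quotient_conj_of_cyclic M hB (fun r hr hrM R x hx hxM => by
    have hr2 : r ≠ 2 := by
      rintro rfl
      exact Nat.not_even_iff_odd.2 hM (even_iff_two_dvd.2 hrM)
    exact isCyclic_sylow M hB hrM R (fun hu => ((CfsgLib.UniqueInvol.cyclic_or_quaternion R.2 hu).resolve_right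
      fun h => hr2 h.1)) hx hxM) A B hA hB' h

end CfsgLib.AbelConj
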